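import Cfsg.Agent.Lib.QT.CycLin
import Cfsg.Agent.Lib.QT.CycCox
import Cfsg.Agent.Lib.Leech.Co1
import Cfsg.Agent.Lib.Mathieu.Classes
import Cfsg.Agent.Lib.J3.Basic
import Cfsg.Agent.Lib.Ru.Basic
import Cfsg.Agent.S1624
import Cfsg.Agent.S1679
import Cfsg.Agent.S1682
import Cfsg.Agent.S1693
import Cfsg.Agent.S1708
import Cfsg.Agent.S1710
import Cfsg.Agent.S1711

/-! Every sporadic group except `J₁` has a non-cyclic Sylow subgroup of odd order. -/

namespace Cfsg.Lib.QT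
open Subgroup Cfsg.Spor

theorem Bad.of_surj {G H : Type*} [Group G] [Group H] [Finite G] (h : Bad H) (f : G →* H)
    (hf : Function.Surjective f) : Bad G := by
  obtain ⟨p, hp, h2, h⟩ := h
  refine ⟨p, hp, h2, fun hc => h fun P hP => ?_⟩
  haveI := Fact.mk hp
  obtain ⟨S, hS⟩ := hP.exists_le_sylow
  obtain ⟨Q, rfl⟩ := Sylow.mapSurjective_surjective hf p S
  haveI := hc Q Q.isPGroup'
  haveI : IsCyclic (Q.mapSurjective hf : Subgroup H) :=
    isCyclic_of_surjective _ (f.subgroupMap_surjective Q)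
  exact Subgroup.isCyclic_of_le hS

theorem bad_m24 {G : Type*} [Group G] [Finite G] (f : G →* M24) (hf : Function.Injective f)
    (h : 9 ∣ Nat.card G) : Bad G :=
  ⟨3, Nat.prime_three, by norm_num, not_cy_of_dvd Nat.prime_three (k := 2) h fun g e =>
    List.not_mem_nil (Mathieu.card_fixP_mem (a := 9) (l := []) (by decide +kernel) (f g).2
      ((orderOf_coe _).trans ((orderOf_injective f hf g).trans e)))⟩

theorem bad_M11 : Bad M11 :=
  bad_m24 (inclusion Mathieu.M11_le) (inclusion_injective _) (by rw [Mathieu.card_M11]; norm_num)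

theorem bad_M22 : Bad M22 :=
  bad_m24 (inclusion Mathieu.M22_le) (inclusion_injective _) (by rw [Mathieu.card_M22]; norm_num)

theorem bad_m22 : Bad Leech.m22 := by
  refine (bad_m24 (Subgroup.subtype _) Subtype.val_injective ?_).congr Leech.m22Equiv.symm
  rw [Nat.card_congr Leech.m22Equiv.toEquiv, Leech.card_m22]; norm_num

theorem bad_HS : Bad HS := (bad_m22.mono inf_le_left).congr Leech.hsEquiv.symm

theorem bad_Co1 : Bad Co1 := bad_m22.sub.quot _ fun x hx => by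
  have := pow_card_eq_one' (x := (⟨x, hx⟩ : center Co0))
  rw [Leech.card_center] at this
  exact congrArg Subtype.val this

open Cfsg.Lib.F2 in
theorem nc_coded {G X : Type*} [Group G] [MulAction G X] {d b Q : ℕ} {code : X → ℕ}
    (hc : Coded G d code) (hk : kerC G code = ⊥) (hs : Sur d code b Q) {C D : ℕ}
    (h1 : Good d code (⊤ : Subgroup G) C) (h2 : Good d code (⊤ : Subgroup G) D)
    (e : (Nat.beq (mpow d C 3) (idM d) && Nat.beq (mpow d D 3) (idM d) &&
      Nat.beq (mmul d C D) (mmul d D C) && mne d b Q D (idM d) && mne d b Q (idM d) C &&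
      mne d b Q D C && mne d b Q (mpow d D 2) C) = true) : NC 3 G := by
  obtain ⟨x, -, hx⟩ := h1
  obtain ⟨y, -, hy⟩ := h2
  simp only [Bool.and_eq_true, Nat.beq_eq] at e
  obtain ⟨⟨⟨⟨⟨⟨e1, e2⟩, e3⟩, e4⟩, e5⟩, e6⟩, e7⟩ := e
  have y3 : y ^ 3 = 1 := hc.eq_one hk (e2 ▸ hy.pow hc.lt 3)
  refine ⟨x, y, hc.eq_one hk (e1 ▸ hx.pow hc.lt 3), y3,
    (hx.mul hy).eq_of_ker hc hk (e3 ▸ hy.mul hx), hy.ne' hs (LRep.one hc.lt) e4, fun k => ?_⟩
  rw [← (isOfFinOrder_iff_pow_eq_one.2 ⟨3, by norm_num, y3⟩).mem_powers_iff_mem_zpowers] at k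
  obtain ⟨k, hk⟩ := k
  simp only at hk
  rw [pow_eq_pow_mod k y3] at hk
  have := Nat.mod_lt k (show 3 > 0 by norm_num)
  interval_cases k % 3
  · exact (LRep.one hc.lt).ne' hs hx e5 (by simpa using hk)
  · exact hy.ne' hs hx e6 (by simpa using hk)
  · exact (hy.pow hc.lt 2).ne' hs hx e7 hk

open Cfsg.Lib.F2 Cfsg.Lib.Ru in
theorem bad_Ru : Bad Spor.Ru := by
  have g : ∀ (L : List ℕ) (i : ℕ), (∀ C ∈ L, Good 28 cv (⊤ : Subgroup Spor.Ru) C) →
      Good 28 cv (⊤ : Subgroup Spor.Ru) (nth (idM 28) L i) := fun L i h =>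
    (nth_mem (idM 28) L i).elim (fun e => e.symm ▸ Good.one model.coded.lt _) (h _)
  obtain ⟨L, h, e⟩ := slp_spec (Good.one model.coded.lt ⊤) (fun _ _ => Good.mul) model.good_s
    (prog := [0, 1, 2, 3, 5, 5, 7, 8, 8, 9, 0, 0, 12301, 14, 15, 15, 16, 18, 18, 19, 21, 0, 0])
    (k := fun L => let C := nth (idM 28) L 11; let D := nth (idM 28) L 0
      Nat.beq (mpow 28 C 3) (idM 28) && Nat.beq (mpow 28 D 3) (idM 28) &&
      Nat.beq (mmul 28 C D) (mmul 28 D C) && mne 28 4 tq D (idM 28) && mne 28 4 tq (idM 28) C &&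
      mne 28 4 tq D C && mne 28 4 tq (mpow 28 D 2) C) (by decide +kernel)
  exact (nc_coded model.coded model.ker Model.sur (g L 11 h) (g L 0 h) e).bad3

theorem bad_J3 {F : Type} [Field F] [Fintype F] {ω : F} (hF : Fintype.card F = 4)
    (hω : ω ^ 2 + ω + 1 = 0) : Bad (Spor.J3 F ω) := by
  have h := F2.IsF4.of_card hF hω
  have h3 : ω ^ 3 = 1 := by linear_combination (ω - 1) * hω
  have h1 : ω ≠ 1 := fun e => by
    rw [e] at hω; exact one_ne_zero (by linear_combination hω - h.two : (1 : F) = 0)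
  have hp : IsPrimitiveRoot ω 3 := by
    haveI := Nat.fact_prime_three
    exact orderOf_eq_prime h3 h1 ▸ IsPrimitiveRoot.orderOf ω
  have ad : ∀ m n : ZMod 3, omegaPow F ω (m + n) = omegaPow F ω m * omegaPow F ω n := fun m n => by
    rw [omegaPow, omegaPow, omegaPow, ZMod.val_add, ← pow_eq_pow_mod _ h3, pow_add]
  let f : Multiplicative F9 →* Matrix F9 F9 F :=
    { toFun := fun Z => j3A F ω Z.toAdd
      map_one' := by simp [j3A, omegaPow]
      map_mul' := fun Y Z => by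
        simp only [j3A, Matrix.diagonal_mul_diagonal, ← ad, toAdd_mul, Prod.fst_add, Prod.snd_add]
        congr 1; ext z; congr 1; ring }
  refine (nc_of_hom Nat.prime_three ((QuotientGroup.mk' _).comp (f.toHomUnits.codRestrict
    (threeJ3 F ω) fun Z => subset_closure (.inl (.inl (.inl (.inl ⟨_, rfl⟩))))))
    ((injective_iff_map_eq_one _).2 fun Z e => ?_)).bad3
  have e1 := (QuotientGroup.eq_one_iff _).1 e
  rw [J3.center_eq h, mem_subgroupOf] at e1
  obtain ⟨k, hk⟩ := e1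
  have e2 := congrArg Units.val hk
  simp only [J3.scal, ← map_zpow] at e2
  generalize Units.mk0 ω h.ne_zero ^ k = u at e2
  have E : ∀ z : F9, omegaPow F ω (Z.toAdd.1 * z.1 + Z.toAdd.2 * z.2) = 1 := fun z => by
    have a := congrFun (congrFun e2 z) z
    have b := congrFun (congrFun e2 0) 0
    simp [f, j3A] at a b
    rw [← a, b, omegaPow]; simp
  have z0 : ∀ n : ZMod 3, omegaPow F ω n = 1 → n = 0 := fun n e =>
    (ZMod.val_eq_zero n).1 (Nat.eq_zero_of_dvd_of_lt (hp.dvd_of_pow_eq_one _ e) n.val_lt)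
  exact Prod.ext (z0 Z.toAdd.1 (by simpa using E (1, 0))) (z0 Z.toAdd.2 (by simpa using E (0, 1)))

theorem bad_HN [Finite HN] : Bad HN := by
  obtain ⟨K, -, -, -, ⟨e⟩, -⟩ := Agent.S1708.result
  exact ((bad_HS.congr e).of_surj _ (QuotientGroup.mk'_surjective _)).sub.sub

theorem spor_cy {S : Type*} [Group S] [Finite S] (hn : ¬ IsMulCommutative S)
    (h : IsSporadicGroup S) (hb : ¬ Bad S) : IsoJ1 S := by
  have N : ∀ {X : Type} [Group X], S ≃* X → ¬ IsMulCommutative X := fun e k =>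
    hn ⟨⟨fun a b => e.injective (by rw [map_mul, map_mul, k.1.1])⟩⟩
  rcases h with h | h | h | h | h | h | h | h | h | h | h | h | h | h | h | h | h | h | h | h | h |
    h | h | h | h | h
  on_goal 6 => exact h
  all_goals refine (hb ?_).elim
  · obtain ⟨e⟩ := h; exact bad_M11.congr e
  · obtain ⟨e⟩ := h; exact (bad_M11.mono inf_le_left).congr e
  · obtain ⟨e⟩ := h; exact bad_M22.congr e
  · obtain ⟨e⟩ := h; exact (bad_M22.mono inf_le_left).congr e
  · obtain ⟨e⟩ := h; exact (bad_M22.mono Mathieu.M22_le).congr e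
  · obtain ⟨e⟩ := h
    obtain ⟨H, -, ⟨F, _, _, hF, ⟨e'⟩⟩, -⟩ := Agent.S1624.result
    exact ((bad_PSU hF le_rfl).congr e').sub.congr e
  · obtain ⟨F, _, _, ω, h1, h2, ⟨e⟩⟩ := h; exact (bad_J3 h1 h2).congr e
  · obtain ⟨e⟩ := h
    obtain ⟨e'⟩ := Agent.S1711.result
    exact ((bad_M22.mono Mathieu.M22_le).congr e').sub.congr e
  · obtain ⟨e⟩ := h; exact bad_Co1.congr e
  · obtain ⟨e⟩ := h; exact ((bad_m22.mono inf_le_right).congr Leech.co2Equiv.symm).congr e
  · obtain ⟨e⟩ := h; exact (bad_HS.mono inf_le_left).congr e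
  · obtain ⟨e⟩ := h
    exact ((bad_m22.mono (Leech.mcl_inf_U'.ge.trans inf_le_left)).congr Leech.mclEquiv.symm).congr e
  · obtain ⟨e⟩ := h; exact bad_HS.congr e
  · obtain ⟨e⟩ := h
    obtain ⟨F, _, _, -, ⟨e'⟩⟩ := Agent.S1679.result
    exact (bp_G2.bad.congr e').sub.congr e
  · obtain ⟨e⟩ := h
    obtain ⟨K, F, _, _, -, -, -, ⟨e'⟩⟩ := Agent.S1682.result
    exact ((bp_Sp le_rfl).bad.congr e').sub.sub.congr e
  · obtain ⟨e⟩ := h; exact bad_Ru.congr e
  · obtain ⟨e⟩ := h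
    obtain ⟨K, -, -, ⟨e'⟩⟩ := Agent.S1693.result
    haveI : Fact (Nat.Prime 7) := ⟨by norm_num⟩
    exact ((bad_PSL3 (F := ZMod 7) (by simp)).congr e').sub.sub.congr e
  · obtain ⟨e⟩ := h
    obtain ⟨F, _, _, -, ⟨e'⟩⟩ := Agent.S1710.result
    exact (bp_G2.bad.congr e').sub.congr e
  · obtain ⟨e⟩ := h; exact (bad_Fi22 (N e)).congr e
  · obtain ⟨e⟩ := h; exact (bad_Fi23 (N e)).congr e
  · obtain ⟨e⟩ := h; exact (bad_Fi24 (N e)).congr e
  · obtain ⟨e⟩ := h
    haveI := Finite.of_equiv _ e.toEquiv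
    exact bad_HN.congr e
  · obtain ⟨e⟩ := h; exact (bad_Th (N e)).congr e
  · obtain ⟨e⟩ := h; exact (bad_B (N e)).congr e
  · obtain ⟨e⟩ := h; exact (bad_M (N e)).congr e

end Cfsg.Lib.QT
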