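import Cfsg.Agent.Lib.QT.CycSpor
import Cfsg.Agent.Lib.QT.CycOr
import Cfsg.Agent.Lib.QT.Uniq
import Cfsg.Agent.S0252
import Cfsg.Agent.S0255

/-! Known simple groups with cyclic Sylow subgroups for all odd primes, and the structure of the
`𝒞`-components of a strongly quasithin `K`-group. -/

namespace Cfsg.Lib.QT
open Subgroup Cfsg.Lib.BG Cfsg.Lib.Core Cfsg.Lib.Loc Cfsg.Lib.KS
open scoped Cfsg.Lib.Transfer commutatorElement

/-- `L₂(2ⁿ)`, `Sz(2ⁿ)`, `L₂(p)` or `J₁`. -/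
def CyL (S : Type*) [Group S] : Prop :=
  (∃ (F : Type) (_ : Field F) (_ : Fintype F), CharP F 2 ∧
    Nonempty (S ≃* Matrix.ProjectiveSpecialLinearGroup (Fin 2) F)) ∨ Lie.IsoSuzuki S ∨
  (∃ (F : Type) (_ : Field F) (_ : Fintype F), (Fintype.card F).Prime ∧ Fintype.card F ≠ 2 ∧
    Nonempty (S ≃* Matrix.ProjectiveSpecialLinearGroup (Fin 2) F)) ∨ Spor.IsoJ1 S

theorem known_cy {S : Type*} [Group S] [Finite S] (hn : ¬ IsMulCommutative S)
    (h : IsKnownSimple' S) (hb : ¬ Bad S) : CyL S := by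
  rcases h with h | h | h | h | h | h | h | h | h | h
  · haveI : Fact (Nat.card S).Prime := ⟨h⟩
    haveI := isCyclic_of_prime_card (p := Nat.card S) rfl
    exact absurd IsCyclic.isMulCommutative hn
  · obtain ⟨n, h5, ⟨e⟩⟩ := h
    obtain rfl : n = 5 := by by_contra k; exact hb ((bad_alt (by omega)).congr e)
    haveI := Fintype.ofFinite (GaloisField 2 2)
    obtain ⟨e'⟩ := Agent.S0252.result (F := GaloisField 2 2) (by
      rw [Fintype.card_eq_nat_card, GaloisField.card 2 2 two_ne_zero]; rfl)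
    exact .inl ⟨_, _, ‹_›, inferInstance, ⟨e.trans e'.symm⟩⟩
  · obtain ⟨F, _, _, n, h2, h4, ⟨e⟩⟩ := h
    rcases (by omega : n = 2 ∨ n = 3 ∨ 4 ≤ n) with rfl | rfl | h
    · by_cases c : CharP F 2
      · exact .inl ⟨F, _, ‹_›, c, ⟨e⟩⟩
      · exact .inr (.inr (.inl ⟨F, _, _, by_contra fun k => hb ((bad_PSL2 c k).congr e),
          by have := h4 rfl; omega, ⟨e⟩⟩))
    · haveI : Fact (Nat.Prime 7) := ⟨by norm_num⟩
      obtain ⟨e'⟩ := Agent.S0255.result (F := ZMod 7) (K := F) (ZMod.card 7)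
        (by_contra fun k => hb ((bad_PSL3 k).congr e))
      exact .inr (.inr (.inl ⟨ZMod 7, _, _, by rw [ZMod.card]; norm_num, by simp,
        ⟨e.trans e'.symm⟩⟩))
    · exact (hb ((bp_SL h).quot.congr e)).elim
  · obtain ⟨F, _, _, n, h2, -, ⟨e⟩⟩ := h; exact (hb ((bp_Sp h2).quot.congr e)).elim
  · obtain ⟨F, _, _, n, q, h1, h2, -, ⟨e⟩⟩ := h; exact (hb ((bad_PSU h1 h2).congr e)).elim
  · obtain ⟨F, _, _, n, h1, h2, ⟨e⟩⟩ := h; exact (hb ((bad_POdd h1 h2).congr e)).elim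
  · obtain ⟨F, _, _, n, h1, ⟨e⟩⟩ := h; exact (hb ((bad_PPlus h1).congr e)).elim
  · obtain ⟨F, _, _, n, a, b, h1, h2, ⟨e⟩⟩ := h; exact (hb ((bad_PMinus h1 h2).congr e)).elim
  · rcases h with h | h | h | h | h | h | h | h | h | h | h
    on_goal 8 => exact .inr (.inl h)
    all_goals refine (hb ?_).elim
    · obtain ⟨F, _, _, -, ⟨e⟩⟩ := h; exact bp_G2.bad.congr e
    · obtain ⟨F, _, _, ⟨e⟩⟩ := h; exact bp_F4.bad.congr e
    · obtain ⟨F, _, _, ⟨e⟩⟩ := h; exact bp_E6.bad.congr e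
    · obtain ⟨F, _, _, ⟨e⟩⟩ := h; exact bp_E7.bad.congr e
    · obtain ⟨F, _, _, ⟨e⟩⟩ := h; exact bp_E8.bad.congr e
    · obtain ⟨F, _, _, q, -, h2, ⟨e⟩⟩ := h; exact (bad_2E6 h2).congr e
    · obtain ⟨F, _, _, q, -, h2, ⟨e⟩⟩ := h; exact (bad_3D4 h2).congr e
    · obtain ⟨F, _, _, q, h1, h2, ⟨e⟩⟩ := h; exact (bad_Ree h1 h2).congr e
    · obtain ⟨F, _, _, q, -, h2, ⟨e⟩⟩ := h
      refine (bad_comm_2F4 ?_ (by positivity)).sub.congr e
      have := FiniteField.cast_card_eq_zero F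
      rw [h2, Nat.cast_pow] at this
      exact pow_eq_zero_iff (by omega) |>.1 this
    · obtain ⟨e⟩ := h; exact (bad_comm_2F4 rfl one_ne_zero).congr e
  · exact .inr (.inr (.inr (spor_cy hn h hb)))

variable {G : Type*} [Group G] [Finite G] {H L : Subgroup G}

theorem CC.cyL (h : CC L H) (hs : SQ H) (hk : CK IsKnownSimple' H) (hn : ¬ H ≤ 𝐍(L)) :
    CyL (L ⧸ pCore 2 L) := by
  have hN := core_nml 2 H
  have hr : ∀ p : ℕ, p.Prime → p ≠ 2 → rk p (BG.quo L (pCoreOf 2 H)) ≤ 1 := fun p hp h2 =>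
    haveI := Fact.mk hp; h.rk_le_of_not_norm hs hn h2
  obtain ⟨h1, h2⟩ := h.quo_core.simple (core_quo_core 2 H) hr
  have h3 : (pCoreOf 2 H).subgroupOf L = pCore 2 L := by
    rw [← core_subgroupOf_self, h.core_eq, inf_subgroupOf_right]
  haveI : ((pCoreOf 2 H).subgroupOf L).Normal := h3 ▸ inferInstance
  obtain ⟨f⟩ := nonempty_quotient_equiv_quo (h.le.trans hN.norm)
  have e := f.symm.trans (QuotientGroup.quotientMulEquivOfEq h3)
  refine known_cy (fun k => h2 ⟨⟨fun a b => e.injective (by rw [map_mul, map_mul, k.1.1])⟩⟩)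
    (known_congr _ _ e (((ck_quo hk hN.norm).sn h.quo_core.sn) ⊤ IsSubnormal.top _
      (Subgroup.subtype _) (fun x => ⟨⟨x, mem_top _⟩, rfl⟩) h1 h2)) fun hb => ?_
  obtain ⟨p, hp, p2, hc⟩ := hb.congr e
  haveI := Fact.mk hp
  exact hc fun P hP => PGroup.isCyclic_of_pRankLE_one_of_odd p2 hP
    (PGroup.pRankLE_of_le le_top (PGroup.pRankLE_top_iff.2 (A10.rk_le_iff.1 (hr p hp p2))))

theorem cc_structure (hs : SQ (⊤ : Subgroup G)) (hk : CK IsKnownSimple' (⊤ : Subgroup G))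
    (ho : OS (⊤ : Subgroup G)) : sSup (calC G) = perfectCore G ∧
    (∀ L₁ ∈ calC G, ∀ L₂ ∈ calC G, L₁ ≠ L₂ → ⁅L₁, L₂⁆ ≤ pCoreOf 2 L₁ ⊓ pCoreOf 2 L₂ ∧
      pCoreOf 2 L₁ ⊓ pCoreOf 2 L₂ ≤ pCore 2 G) ∧
    ∀ L ∈ calC G, L.Normal ∨ (𝐍(L).index = 2 ∧ CyL (L ⧸ pCore 2 L)) := by
  refine ⟨le_antisymm (sSup_le fun L hL => le_sSup (cc_top.1 hL).perf) (sSup_le fun L hL =>
    (le_CE' hs ho hL le_top).trans (CE_le_iff.2 fun K hK => le_sSup (cc_top.2 hK))),
    fun L hL K hK e => ?_, fun L hL => ?_⟩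
  · rw [cc_top] at hL hK
    rw [hL.core_eq, hK.core_eq]
    have := hL.comm_le_core hK e hs
    exact ⟨le_inf (le_inf this (comm_le_left (hL.norm hK)))
      (le_inf this (comm_le_right (hK.norm hL))),
      inf_le_left.trans (inf_le_left.trans core_top.le)⟩
  · rw [cc_top] at hL
    by_cases hn : ⊤ ≤ 𝐍(L)
    · exact .inl (normalizer_eq_top_iff.1 (top_le_iff.1 hn))
    · refine .inr ⟨?_, hL.cyL hs hk hn⟩
      have := hL.index_dvd hs
      rw [relIndex_top_right] at this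
      exact ((Nat.dvd_prime Nat.prime_two).1 this).resolve_left fun k => hn (index_eq_one.1 k).ge

theorem SQ.top (h : SQ H) : SQ (⊤ : Subgroup H) := fun p hp h2 => by
  haveI := Fact.mk hp
  rw [← rk_map_of_injective H.subtype_injective, ← MonoidHom.range_eq_map, range_subtype]
  exact h p hp h2

end Cfsg.Lib.QT
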